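import Groth.Agent.AlgSpLib.Points
import Groth.Agent.AlgSpDec.EtaleQuot
import Mathlib.CategoryTheory.Sites.Over
import Mathlib.CategoryTheory.Limits.Types.Pullbacks

/-!
# Restriction of sheaves along a change of the base scheme
-/

set_option backward.isDefEq.respectTransparency false
set_option backward.isDefEq.respectTransparency.types false

universe u

open CategoryTheory CategoryTheory.Limits AlgebraicGeometry Opposite AlgSp Groth.Agent.AlgSpLib

namespace Groth.Agent.AlgSpBase

variable {S S' : Scheme.{u}}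

/-- A square of sheaves is cartesian when it is so on sections. -/
theorem isPullback_of_sections {P A B C : Sp S} {t : P ⟶ A} {l : P ⟶ B} {r : A ⟶ C} {b : B ⟶ C}
    (w : t ≫ r = l ≫ b)
    (hinj : ∀ (T : Over S) (x y : P.obj.obj (op T)), t.hom.app _ x = t.hom.app _ y → l.hom.app _ x = l.hom.app _ y → x = y)
    (hsurj : ∀ (T : Over S) (x : A.obj.obj (op T)) (y : B.obj.obj (op T)), r.hom.app _ x = b.hom.app _ y →
      ∃ z, t.hom.app _ z = x ∧ l.hom.app _ z = y) : IsPullback t l r b := by
  refine IsPullback.of_map_of_faithful (sheafToPresheaf (J S) (Type (u + 1))) ?_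
  refine IsPullback.of_forall_isPullback_app fun T => ?_
  rw [Types.isPullback_iff]
  exact ⟨congrArg (fun φ => φ.hom.app T) w, fun x y h => hinj T.unop x y h.1 h.2, hsurj T.unop⟩

/-- Sections of a cartesian square. -/
theorem sections_of_isPullback {P A B C : Sp S} {t : P ⟶ A} {l : P ⟶ B} {r : A ⟶ C} {b : B ⟶ C}
    (sq : IsPullback t l r b) (T : Over S) :
    (∀ x y : P.obj.obj (op T), t.hom.app _ x = t.hom.app _ y → l.hom.app _ x = l.hom.app _ y → x = y) ∧
    (∀ (x : A.obj.obj (op T)) (y : B.obj.obj (op T)), r.hom.app _ x = b.hom.app _ y →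
      ∃ z, t.hom.app _ z = x ∧ l.hom.app _ z = y) := by
  have h := Types.isPullback_iff _ _ _ _ |>.1
    (IsPullback.app (sq.map (sheafToPresheaf (J S) (Type (u + 1)))) (op T))
  exact ⟨fun x y hx hy => h.2.1 x y ⟨hx, hy⟩, h.2.2⟩

/-- Restriction along a morphism of bases. -/
noncomputable abbrev jinv (g : S ⟶ S') : Sp S' ⥤ Sp S :=
  Scheme.fppfTopology.overMapPullback (Type (u + 1)) g

theorem jinv_map_isPullback (g : S ⟶ S') {P A B C : Sp S'} {t : P ⟶ A} {l : P ⟶ B} {r : A ⟶ C} {b : B ⟶ C}
    (sq : IsPullback t l r b) : IsPullback ((jinv g).map t) ((jinv g).map l) ((jinv g).map r) ((jinv g).map b) :=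
  isPullback_of_sections (by rw [← Functor.map_comp, ← Functor.map_comp, sq.w])
    (fun T => (sections_of_isPullback sq ((Over.map g).obj T)).1)
    (fun T => (sections_of_isPullback sq ((Over.map g).obj T)).2)

/-- The restriction of a representable sheaf is represented by the fibre product. -/
noncomputable def jinvRepBy (g : S ⟶ S') (X' : Over S') :
    ((jinv g).obj ((yon S').obj X')).obj.RepresentableBy (Over.mk (pullback.snd X'.hom g)) where
  homEquiv {T} := ((Over.mapPullbackAdj g).homEquiv T X').symm.trans Equiv.ulift.symm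
  homEquiv_comp {T T'} f h := by
    apply ULift.ext
    exact (Over.mapPullbackAdj g).homEquiv_naturality_left_symm f h

noncomputable def jinvYonIso (g : S ⟶ S') (X' : Over S') :
    (yon S).obj (Over.mk (pullback.snd X'.hom g)) ≅ (jinv g).obj ((yon S').obj X') :=
  isoOfRepresentableBy (jinvRepBy g X')

/-- The test morphism on restrictions. -/
noncomputable def unitMap (g : S ⟶ S') (T : Over S) :
    (yon S).obj T ⟶ (jinv g).obj ((yon S').obj ((Over.map g).obj T)) :=
  (J S).uliftYonedaEquiv.symm ⟨𝟙 _⟩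

/-- The morphism corresponding to a morphism into a restriction. -/
noncomputable def adjUp (g : S ⟶ S') {T : Over S} {G : Sp S'} (ξ : (yon S).obj T ⟶ (jinv g).obj G) :
    (yon S').obj ((Over.map g).obj T) ⟶ G :=
  (J S').uliftYonedaEquiv.symm ((J S).uliftYonedaEquiv ξ)

theorem unitMap_comp (g : S ⟶ S') (T : Over S) {G : Sp S'} (ξ : (yon S).obj T ⟶ (jinv g).obj G) :
    unitMap g T ≫ (jinv g).map (adjUp g ξ) = ξ := by
  apply (J S).uliftYonedaEquiv.injective
  rw [GrothendieckTopology.uliftYonedaEquiv_comp, unitMap, Equiv.apply_symm_apply]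
  change (adjUp g ξ).hom.app (op ((Over.map g).obj T)) ⟨𝟙 _⟩ = _
  rw [adjUp]
  rw [GrothendieckTopology.uliftYonedaEquiv_symm_app_apply, op_id, Functor.map_id_apply]

theorem unitMap_app (g : S ⟶ S') (T : Over S) {Z : Over S} (z : Z ⟶ T) :
    (unitMap g T).hom.app (op Z) ⟨z⟩ = ⟨(Over.map g).map z⟩ := by
  rw [unitMap, GrothendieckTopology.uliftYonedaEquiv_symm_app_apply]
  apply ULift.ext
  exact Category.comp_id ((Over.map g).map z)

/-- A base change of a representable morphism between restrictions. -/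
theorem exists_isPullback_jinv (g : S ⟶ S') {F G : Sp S'} {f : F ⟶ G} (hf : Representable f) {T : Over S}
    (ξ : (yon S).obj T ⟶ (jinv g).obj G) :
    ∃ (W' : Over S') (snd' : W' ⟶ (Over.map g).obj T) (fst' : (yon S').obj W' ⟶ F) (W : Over S) (snd : W ⟶ T)
      (fst : (yon S).obj W ⟶ (jinv g).obj F) (η : (yon S').obj ((Over.map g).obj T) ⟶ G),
      (∀ P : MorphismProperty Scheme.{u}, P snd'.left → P snd.left) ∧ IsPullback fst' ((yon S').map snd') f η ∧
        IsPullback fst ((yon S).map snd) ((jinv g).map f) ξ := by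
  let η := adjUp g ξ
  obtain ⟨W', snd', fst', sq⟩ := hf η
  let W : Over S := Over.mk (snd'.left ≫ T.hom)
  let snd : W ⟶ T := Over.homMk snd'.left rfl
  let e : (Over.map g).obj W ⟶ W' := Over.homMk (𝟙 _) (by
    show 𝟙 W'.left ≫ W'.hom = (snd'.left ≫ T.hom) ≫ g
    rw [Category.id_comp, Category.assoc]
    exact (Over.w snd').symm)
  let w : (yon S).obj W ⟶ (jinv g).obj ((yon S').obj W') := (J S).uliftYonedaEquiv.symm ⟨e⟩
  have hw : ∀ (Z : Over S) (z : Z ⟶ W), w.hom.app (op Z) ⟨z⟩ = ⟨(Over.map g).map z ≫ e⟩ := fun Z z => by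
    simp only [w]
    rw [GrothendieckTopology.uliftYonedaEquiv_symm_app_apply]
    rfl
  have sq₂ : IsPullback w ((yon S).map snd) ((jinv g).map ((yon S').map snd')) (unitMap g T) := by
    refine isPullback_of_sections ?_ ?_ ?_
    · apply (J S).uliftYonedaEquiv.injective
      rw [GrothendieckTopology.uliftYonedaEquiv_comp, GrothendieckTopology.uliftYonedaEquiv_comp,
        Equiv.apply_symm_apply, GrothendieckTopology.uliftYonedaEquiv_uliftYoneda_map]
      refine Eq.trans ?_ (unitMap_app g T snd).symm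
      apply ULift.ext
      apply Over.OverMorphism.ext
      show 𝟙 W'.left ≫ snd'.left = snd'.left
      rw [Category.id_comp]
    · rintro Z ⟨x⟩ ⟨y⟩ h -
      erw [hw, hw] at h
      apply ULift.ext
      apply Over.OverMorphism.ext
      have h' := congrArg (fun q => q.down.left) h
      simpa [e] using h'
    · rintro Z ⟨x⟩ ⟨y⟩ h
      erw [unitMap_app] at h
      have h' : x.left ≫ snd'.left = y.left := congrArg (fun q => q.down.left) h
      refine ⟨⟨Over.homMk x.left (by
        show x.left ≫ snd'.left ≫ T.hom = Z.hom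
        rw [reassoc_of% h', Over.w])⟩, ?_, ?_⟩
      · erw [hw]
        apply ULift.ext
        apply Over.OverMorphism.ext
        exact Category.comp_id _
      · apply ULift.ext
        apply Over.OverMorphism.ext
        exact h'
  refine ⟨W', snd', fst', W, snd, w ≫ (jinv g).map fst', η, fun _ h => h, sq, ?_⟩
  have := sq₂.paste_horiz (jinv_map_isPullback g sq)
  rwa [unitMap_comp] at this

theorem representable_jinv (g : S ⟶ S') {F G : Sp S'} {f : F ⟶ G} (hf : Representable f) :
    Representable ((jinv g).map f) := by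
  intro T ξ
  obtain ⟨-, -, -, W, snd, fst, -, -, -, sq⟩ := exists_isPullback_jinv g hf ξ
  exact ⟨W, snd, fst, sq⟩

theorem repWith_jinv (g : S ⟶ S') {P : MorphismProperty Scheme.{u}} [P.IsStableUnderBaseChange]
    {F G : Sp S'} {f : F ⟶ G} (hf : RepWith P f) : RepWith P ((jinv g).map f) := by
  refine ⟨representable_jinv g hf.rep, fun T V ξ fst₁ snd₁ sq₁ => ?_⟩
  obtain ⟨W', snd', fst', W, snd, fst, η, hsnd, sq', sq⟩ := exists_isPullback_jinv g hf.rep ξ
  have h' : P snd.left := by
    exact hsnd P (hf.property η fst' snd' sq')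
  obtain ⟨e, he⟩ := (yon S).map_surjective (sq₁.isoIsPullback _ _ sq).hom
  obtain ⟨e', he'⟩ := (yon S).map_surjective (sq₁.isoIsPullback _ _ sq).inv
  haveI : IsIso e := ⟨e', (yon S).map_injective (by rw [Functor.map_comp, he, he', Iso.hom_inv_id, (yon S).map_id]),
    (yon S).map_injective (by rw [Functor.map_comp, he, he', Iso.inv_hom_id, (yon S).map_id])⟩
  have hse : e ≫ snd = snd₁ := (yon S).map_injective (by
    rw [Functor.map_comp, he, IsPullback.isoIsPullback_hom_snd])
  haveI : P.RespectsIso := MorphismProperty.IsStableUnderBaseChange.respectsIso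
  change P snd₁.left
  rw [← hse, Over.comp_left]
  haveI : IsIso e.left := inferInstanceAs (IsIso ((Over.forget S).map e))
  exact (P.cancel_left_of_respectsIso e.left snd.left).2 h'

theorem isAlgSpace_jinv (g : S ⟶ S') {F : Sp S'} (hF : IsAlgSpace F) : IsAlgSpace ((jinv g).obj F) := by
  obtain ⟨U, a, ha, has⟩ := hF.atlas
  have h1 : RepWith @Etale ((jinvYonIso g U).hom ≫ (jinv g).map a) :=
    repWith_comp (repWith_of_isIso _ _) (repWith_jinv g ha)
  have h2 : RepWith @Surjective ((jinvYonIso g U).hom ≫ (jinv g).map a) :=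
    repWith_comp (repWith_of_isIso _ _) (repWith_jinv g has)
  exact AlgSpDec.isAlgSpace_of_etale_surjective (IsAlgSpace.yon_obj _) h1 h2

end Groth.Agent.AlgSpBase
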