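import Groth.Agent.AlgSpBase.JInv

/-!
# Extension of sheaves along a change of the base scheme
-/

set_option backward.isDefEq.respectTransparency false
set_option backward.isDefEq.respectTransparency.types false

universe u

open CategoryTheory CategoryTheory.Limits AlgebraicGeometry Opposite AlgSp Groth.Agent.AlgSpLib

namespace Groth.Agent.AlgSpBase

variable {S S' : Scheme.{u}} (g : S ⟶ S')

/-- A section of the extension of `F` over `T`: a lift of the structure map and a section of `F` over it. -/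
structure JSec (F : Sp S) (T : Over S') : Type (u + 1) where
  hom : T.left ⟶ S
  w : hom ≫ g = T.hom
  val : F.obj.obj (op (Over.mk hom))

variable {g} {F G : Sp S}

theorem JSec.val_congr {T : Over S'} {a b : JSec g F T} (h : a = b) {Z : Over S} (α : Z ⟶ Over.mk a.hom)
    (β : Z ⟶ Over.mk b.hom) (hl : α.left = β.left) : F.obj.map α.op a.val = F.obj.map β.op b.val := by
  subst h
  rw [show α = β from Over.OverMorphism.ext hl]

theorem JSec.ext' {T : Over S'} (a b : JSec g F T) (h : a.hom = b.hom)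
    (hv : F.obj.map (Over.homMk (𝟙 T.left) ((Category.id_comp _).trans h) : Over.mk b.hom ⟶ Over.mk a.hom).op a.val = b.val) :
    a = b := by
  obtain ⟨ha, wa, va⟩ := a
  obtain ⟨hb, wb, vb⟩ := b
  change ha = hb at h
  subst h
  have e : (Over.homMk (𝟙 T.left) ((Category.id_comp _).trans rfl) : Over.mk ha ⟶ Over.mk ha) = 𝟙 _ :=
    Over.OverMorphism.ext rfl
  rw [e, op_id, Functor.map_id_apply] at hv
  subst hv
  rfl

/-- Restriction of sections of the extension. -/
def JSec.res {T T' : Over S'} (φ : T' ⟶ T) (a : JSec g F T) : JSec g F T' where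
  hom := φ.left ≫ a.hom
  w := by rw [Category.assoc, a.w, Over.w]
  val := F.obj.map (Over.homMk φ.left rfl : Over.mk (φ.left ≫ a.hom) ⟶ Over.mk a.hom).op a.val

theorem JSec.res_val {T T' : Over S'} (φ : T' ⟶ T) (a : JSec g F T) {Z : Over S}
    (β : Z ⟶ Over.mk (a.res φ).hom) (α : Z ⟶ Over.mk a.hom) (h : β.left ≫ φ.left = α.left) :
    F.obj.map β.op (a.res φ).val = F.obj.map α.op a.val := by
  dsimp only [JSec.res]
  rw [← Functor.map_comp_apply, ← op_comp,
    show β ≫ (Over.homMk φ.left rfl : Over.mk (φ.left ≫ a.hom) ⟶ Over.mk a.hom) = α from Over.OverMorphism.ext h]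

/-- The identification of a scheme over `S` with one given by an equal structure map. -/
def toMk {Z : Over S} (q : Z.left ⟶ S) (h : q = Z.hom) : Z ⟶ Over.mk q :=
  Over.homMk (𝟙 Z.left) ((Category.id_comp _).trans h)

@[simp] theorem toMk_left {Z : Over S} (q : Z.left ⟶ S) (h : q = Z.hom) : (toMk q h).left = 𝟙 Z.left := rfl

variable (g) (F)

/-- The presheaf extension. -/
def jpre : (Over S')ᵒᵖ ⥤ Type (u + 1) where
  obj T := JSec g F T.unop
  map φ := ↾ fun a => a.res φ.unop
  map_id T := by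
    apply ConcreteCategory.hom_ext
    intro a
    refine JSec.ext' _ a (Category.id_comp _) ?_
    refine (JSec.res_val (𝟙 T.unop) a _ (𝟙 _) (Category.comp_id _)).trans ?_
    rw [op_id, Functor.map_id_apply]
  map_comp {T T' T''} φ ψ := by
    apply ConcreteCategory.hom_ext
    intro a
    refine JSec.ext' (a.res (φ ≫ ψ).unop) ((a.res φ.unop).res ψ.unop) (Category.assoc _ _ _) ?_
    rw [JSec.res_val (φ ≫ ψ).unop a _ (Over.homMk (ψ.unop.left ≫ φ.unop.left) (Category.assoc _ _ _)) (Category.id_comp _)]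
    conv_rhs => rw [← Functor.map_id_apply F.obj _ ((a.res φ.unop).res ψ.unop).val, ← op_id]
    rw [JSec.res_val ψ.unop (a.res φ.unop) (𝟙 _) (Over.homMk ψ.unop.left rfl) (Category.id_comp _),
      JSec.res_val φ.unop a _ (Over.homMk (ψ.unop.left ≫ φ.unop.left) (Category.assoc _ _ _)) rfl]

theorem cover_map {T₀ : Over S} {R : Sieve ((Over.map g).obj T₀)} (hR : R ∈ J S' ((Over.map g).obj T₀)) :
    R.functorPullback (Over.map g) ∈ J S T₀ :=
  Functor.IsCocontinuous.cover_lift (G := Over.map g) (J := Scheme.fppfTopology.over S)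
    (K := Scheme.fppfTopology.over S') hR

theorem isSheaf_jpre : Presheaf.IsSheaf (J S') (jpre g F) := by
  rw [isSheaf_iff_isSheaf_of_type]
  intro T R hR
  have hy := ((isSheaf_iff_isSheaf_of_type _ _).1 ((yon S').obj (Over.mk g)).property) R hR
  rw [← Presieve.isSeparatedFor_and_exists_isAmalgamation_iff_isSheafFor]
  refine ⟨fun x a b ha hb => ?_, fun x hx => ?_⟩
  · have hh : a.hom = b.hom := by
      have := hy.isSeparatedFor (fun T' φ hφ => ⟨Over.homMk (x φ hφ).hom (x φ hφ).w⟩)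
        ⟨Over.homMk a.hom a.w⟩ ⟨Over.homMk b.hom b.w⟩
        (fun T' φ hφ => ULift.ext _ _ (Over.OverMorphism.ext (congrArg JSec.hom (ha φ hφ))))
        (fun T' φ hφ => ULift.ext _ _ (Over.OverMorphism.ext (congrArg JSec.hom (hb φ hφ))))
      exact congrArg (fun q => q.down.left) this
    refine JSec.ext' a b hh ?_
    let ι₀ : (Over.map g).obj (Over.mk b.hom) ⟶ T := Over.homMk (𝟙 _) (by
      show 𝟙 _ ≫ T.hom = b.hom ≫ g
      rw [Category.id_comp, b.w])
    refine (((isSheaf_iff_isSheaf_of_type _ _).1 F.property).isSeparated _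
      (cover_map g ((J S').pullback_stable ι₀ hR))).ext fun Z ψ hψ => ?_
    rw [← Functor.map_comp_apply, ← op_comp]
    have h1 : a.res ((Over.map g).map ψ ≫ ι₀) = b.res ((Over.map g).map ψ ≫ ι₀) :=
      (ha _ hψ).trans (hb _ hψ).symm
    have h2 := JSec.val_congr h1
      (toMk (Z := Z) (a.res ((Over.map g).map ψ ≫ ι₀)).hom (by
        show (ψ.left ≫ 𝟙 _) ≫ a.hom = Z.hom
        rw [Category.comp_id, hh]; exact Over.w ψ))
      (toMk (Z := Z) (b.res ((Over.map g).map ψ ≫ ι₀)).hom (by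
        show (ψ.left ≫ 𝟙 _) ≫ b.hom = Z.hom
        rw [Category.comp_id]; exact Over.w ψ)) rfl
    rw [JSec.res_val _ a _ (ψ ≫ Over.homMk (𝟙 T.left) ((Category.id_comp _).trans hh)) (Category.id_comp _),
      JSec.res_val _ b _ ψ (by show 𝟙 _ ≫ ψ.left ≫ 𝟙 _ = ψ.left; rw [Category.id_comp, Category.comp_id])] at h2
    exact h2
  · obtain ⟨⟨h⟩, hh⟩ := (hy (fun T' φ hφ => ⟨Over.homMk (x φ hφ).hom (x φ hφ).w⟩) (by
      intro Y₁ Y₂ Z g₁ g₂ f₁ f₂ h₁ h₂ he
      exact ULift.ext _ _ (Over.OverMorphism.ext (congrArg JSec.hom (hx g₁ g₂ h₁ h₂ he))))).exists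
    have hq : ∀ {T' : Over S'} (φ : T' ⟶ T) (hφ : R φ), φ.left ≫ h.left = (x φ hφ).hom := fun φ hφ =>
      congrArg (fun q => q.down.left) (hh φ hφ)
    let T₀ : Over S := Over.mk h.left
    let ι₀ : (Over.map g).obj T₀ ⟶ T := Over.homMk (𝟙 _) (by
      show 𝟙 _ ≫ T.hom = h.left ≫ g
      rw [Category.id_comp]; exact (Over.w h).symm)
    have hxs := (Presieve.compatible_iff_sieveCompatible x).1 hx
    let R₀ := (R.pullback ι₀).functorPullback (Over.map g)
    let y : Presieve.FamilyOfElements F.obj R₀.arrows := fun Z ψ hψ =>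
      F.obj.map (toMk (Z := Z) (x ((Over.map g).map ψ ≫ ι₀) hψ).hom (by
        rw [← hq _ hψ]
        show (ψ.left ≫ 𝟙 _) ≫ h.left = Z.hom
        rw [Category.comp_id]; exact Over.w ψ)).op (x ((Over.map g).map ψ ≫ ι₀) hψ).val
    have hyc : y.SieveCompatible := by
      intro Z Z' ψ χ hψ
      simp only [y]
      rw [← Functor.map_comp_apply, ← op_comp]
      have h1 := hxs ((Over.map g).map ψ ≫ ι₀) ((Over.map g).map χ) hψ
      have h2 : x ((Over.map g).map (χ ≫ ψ) ≫ ι₀) (R₀.downward_closed hψ χ) =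
          (x ((Over.map g).map ψ ≫ ι₀) hψ).res ((Over.map g).map χ) := by
        refine Eq.trans ?_ h1
        congr 1
      rw [JSec.val_congr h2 _ (toMk (Z := Z') ((x ((Over.map g).map ψ ≫ ι₀) hψ).res ((Over.map g).map χ)).hom (by
        show χ.left ≫ (x ((Over.map g).map ψ ≫ ι₀) hψ).hom = Z'.hom
        rw [← hq _ hψ]
        show χ.left ≫ (ψ.left ≫ 𝟙 _) ≫ h.left = Z'.hom
        rw [Category.comp_id, show ψ.left ≫ h.left = Z.hom from Over.w ψ, Over.w χ])) rfl]
      refine JSec.res_val _ _ _ _ ?_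
      show 𝟙 _ ≫ χ.left = χ.left ≫ 𝟙 _
      rw [Category.id_comp, Category.comp_id]
    obtain ⟨z, hz⟩ := (((isSheaf_iff_isSheaf_of_type _ _).1 F.property) R₀
      (cover_map g ((J S').pullback_stable ι₀ hR)) y
      ((Presieve.compatible_iff_sieveCompatible y).2 hyc)).exists
    refine ⟨⟨h.left, Over.w h, z⟩, fun T' φ hφ => ?_⟩
    refine JSec.ext' _ _ (hq φ hφ) ?_
    let ψ : Over.mk (x φ hφ).hom ⟶ T₀ := Over.homMk φ.left (hq φ hφ)
    let e : (Over.map g).obj (Over.mk (x φ hφ).hom) ⟶ T' := Over.homMk (𝟙 _) (by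
      show 𝟙 _ ≫ T'.hom = (x φ hφ).hom ≫ g
      rw [Category.id_comp, (x φ hφ).w])
    have he : (Over.map g).map ψ ≫ ι₀ = e ≫ φ := Over.OverMorphism.ext (by
      show φ.left ≫ 𝟙 _ = 𝟙 _ ≫ φ.left
      rw [Category.id_comp, Category.comp_id])
    have hψ : R₀ ψ := by
      show R ((Over.map g).map ψ ≫ ι₀)
      rw [he]; exact R.downward_closed hφ e
    have h1 : x ((Over.map g).map ψ ≫ ι₀) hψ = (x φ hφ).res e := by
      refine Eq.trans ?_ (hxs φ e hφ)
      congr 1
    have h3 := hz ψ hψ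
    simp only [y] at h3
    have h4 := JSec.val_congr h1
      (toMk (Z := Over.mk (x φ hφ).hom) (x ((Over.map g).map ψ ≫ ι₀) hψ).hom
        ((congrArg JSec.hom h1).trans (Category.id_comp _)))
      (toMk (Z := Over.mk (x φ hφ).hom) ((x φ hφ).res e).hom (Category.id_comp _)) rfl
    refine ((JSec.res_val φ _ _ ψ (Category.id_comp _)).trans h3).trans (h4.trans ?_)
    refine (JSec.res_val e (x φ hφ) _ (𝟙 _) (Category.comp_id _)).trans ?_
    rw [op_id, Functor.map_id_apply]

/-- The extension of a sheaf. -/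
def jshObj : Sp S' := ⟨jpre g F, isSheaf_jpre g F⟩

variable {F}

/-- The extension functor. -/
def jsh : Sp S ⥤ Sp S' where
  obj F := jshObj g F
  map {F G} α := ObjectProperty.homMk
    { app := fun T => ↾ fun a => ⟨a.hom, a.w, α.hom.app _ a.val⟩
      naturality := fun T T' φ => by
        apply ConcreteCategory.hom_ext
        intro a
        refine JSec.ext' _ _ rfl ?_
        have := NatTrans.naturality_apply α.hom
          (Over.homMk φ.unop.left rfl : Over.mk (φ.unop.left ≫ a.hom) ⟶ Over.mk a.hom).op a.val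
        refine Eq.trans ?_ this
        exact (ConcreteCategory.congr_hom ((congrArg G.obj.map (congrArg Quiver.Hom.op
          (Over.OverMorphism.ext rfl : _ = 𝟙 (Over.mk (φ.unop.left ≫ a.hom))))).trans (G.obj.map_id _)) _).trans rfl }
  map_id F := rfl
  map_comp f g := rfl

theorem jsh_map_app {A B : Sp S} (α : A ⟶ B) (T : Over S') (a : JSec g A T) :
    ((jsh g).map α).hom.app (op T) a = (⟨a.hom, a.w, α.hom.app _ a.val⟩ : JSec g B T) := rfl

end Groth.Agent.AlgSpBase
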