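import Groth.Agent.AlgSpBase.JShriek
import Mathlib.CategoryTheory.Adjunction.Unique
import Groth.Agent.AlgSpPts.Descent

/-!
# Properties of the extension functor
-/

set_option backward.isDefEq.respectTransparency false
set_option backward.isDefEq.respectTransparency.types false

universe u

open CategoryTheory CategoryTheory.Limits AlgebraicGeometry Opposite AlgSp Groth.Agent.AlgSpLib

namespace Groth.Agent.AlgSpBase

variable {S S' : Scheme.{u}} (g : S ⟶ S')

theorem map_eq_self {S : Scheme.{u}} {F : Sp S} {Z : Over S} (β : Z ⟶ Z) (h : β.left = 𝟙 _)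
    (x : F.obj.obj (op Z)) : F.obj.map β.op x = x := by
  rw [show β = 𝟙 _ from Over.OverMorphism.ext h, op_id, Functor.map_id_apply]

theorem id_res {F : Sp S} {T : Over S'} (a : JSec g F T) (β : Over.mk a.hom ⟶ Over.mk a.hom) (h : β.left = 𝟙 _) :
    F.obj.map β.op a.val = a.val := by
  rw [show β = 𝟙 _ from Over.OverMorphism.ext h, op_id, Functor.map_id_apply]

theorem jsh_map_isPullback {P A B C : Sp S} {t : P ⟶ A} {l : P ⟶ B} {r : A ⟶ C} {b : B ⟶ C}
    (sq : IsPullback t l r b) : IsPullback ((jsh g).map t) ((jsh g).map l) ((jsh g).map r) ((jsh g).map b) := by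
  refine isPullback_of_sections (by rw [← Functor.map_comp, ← Functor.map_comp, sq.w]) ?_ ?_
  · intro T x y hx hy
    change JSec g P T at x y
    have hx' : (⟨x.hom, x.w, t.hom.app _ x.val⟩ : JSec g A T) = ⟨y.hom, y.w, t.hom.app _ y.val⟩ := hx
    have hy' : (⟨x.hom, x.w, l.hom.app _ x.val⟩ : JSec g B T) = ⟨y.hom, y.w, l.hom.app _ y.val⟩ := hy
    have hh : x.hom = y.hom := by
      have := congrArg JSec.hom hx'
      exact this
    refine JSec.ext' x y hh ((sections_of_isPullback sq (Over.mk y.hom)).1 _ _ ?_ ?_)
    · exact (NatTrans.naturality_apply t.hom _ _).trans ((JSec.val_congr hx'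
        (Over.homMk (𝟙 T.left) ((Category.id_comp _).trans hh) : Over.mk y.hom ⟶ Over.mk x.hom)
        (𝟙 (Over.mk y.hom)) rfl).trans (map_eq_self _ rfl _))
    · exact (NatTrans.naturality_apply l.hom _ _).trans ((JSec.val_congr hy'
        (Over.homMk (𝟙 T.left) ((Category.id_comp _).trans hh) : Over.mk y.hom ⟶ Over.mk x.hom)
        (𝟙 (Over.mk y.hom)) rfl).trans (map_eq_self _ rfl _))
  · intro T x y h
    change JSec g A T at x
    change JSec g B T at y
    have h' : (⟨x.hom, x.w, r.hom.app _ x.val⟩ : JSec g C T) = ⟨y.hom, y.w, b.hom.app _ y.val⟩ := h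
    have hh : x.hom = y.hom := by
      have := congrArg JSec.hom h'
      exact this
    let ν : Over.mk y.hom ⟶ Over.mk x.hom := Over.homMk (𝟙 T.left) ((Category.id_comp _).trans hh)
    obtain ⟨z, hz₁, hz₂⟩ := (sections_of_isPullback sq (Over.mk y.hom)).2 (A.obj.map ν.op x.val) y.val
      ((NatTrans.naturality_apply r.hom _ _).trans
        ((JSec.val_congr h' ν (𝟙 (Over.mk y.hom)) rfl).trans (map_eq_self _ rfl _)))
    refine ⟨(⟨y.hom, y.w, z⟩ : JSec g P T), ?_, ?_⟩
    · exact (JSec.ext' (T := T) x ⟨y.hom, y.w, t.hom.app _ z⟩ hh hz₁.symm).symm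
    · exact JSec.ext' (T := T) (⟨y.hom, y.w, l.hom.app _ z⟩ : JSec g B T) y rfl ((map_eq_self _ rfl _).trans hz₂)

/-- The section of the extension given by a section over a scheme over the smaller base. -/
def tautSec {F : Sp S} {T : Over S} (x : F.obj.obj (op T)) : JSec g F ((Over.map g).obj T) :=
  ⟨T.hom, rfl, F.obj.map (Over.homMk (𝟙 T.left) (Category.id_comp _) : Over.mk T.hom ⟶ T).op x⟩

theorem tautSec_res {F : Sp S} {T T' : Over S} (φ : T' ⟶ T) (x : F.obj.obj (op T)) :
    tautSec g (F.obj.map φ.op x) = (tautSec g x).res ((Over.map g).map φ) := by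
  refine JSec.ext' _ _ (Over.w φ).symm ?_
  simp only [tautSec, JSec.res, ← Functor.map_comp_apply, ← op_comp]
  congr 2



/-- The unit. -/
noncomputable def junit (F : Sp S) : F ⟶ (jinv g).obj ((jsh g).obj F) :=
  ObjectProperty.homMk
    { app := fun T => ↾ fun x => tautSec g x
      naturality := fun T T' φ => by
        apply ConcreteCategory.hom_ext
        intro x
        exact tautSec_res g φ.unop x }

theorem junit_app {F : Sp S} (T : Over S) (x : F.obj.obj (op T)) :
    (junit g F).hom.app (op T) x = tautSec g x := rfl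

/-- The inclusion of the tautological scheme. -/
def backHom {T : Over S'} (h : T.left ⟶ S) (w : h ≫ g = T.hom) : T ⟶ (Over.map g).obj (Over.mk h) :=
  Over.homMk (𝟙 T.left) ((Category.id_comp _).trans w)

theorem res_tautSec {F : Sp S} {T : Over S'} (a : JSec g F T) :
    (tautSec g a.val).res (backHom g a.hom a.w) = a := by
  refine JSec.ext' _ _ (Category.id_comp _) ?_
  refine (JSec.res_val (backHom g a.hom a.w) (tautSec g a.val) _ (𝟙 (Over.mk a.hom)) (Category.comp_id _)).trans ?_
  refine (map_eq_self _ rfl _).trans ?_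
  exact id_res g a _ rfl

/-- The adjunction between extension and restriction. -/
noncomputable def jadj : jsh g ⊣ jinv g :=
  Adjunction.mkOfHomEquiv
    { homEquiv := fun F G =>
        { toFun := fun α => junit g F ≫ (jinv g).map α
          invFun := fun β => ObjectProperty.homMk
            { app := fun T => ↾ fun a => G.obj.map (backHom g a.hom a.w).op (β.hom.app (op (Over.mk a.hom)) a.val)
              naturality := fun T T' φ => by
                apply ConcreteCategory.hom_ext
                intro a
                change JSec g F T.unop at a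
                show G.obj.map (backHom g (a.res φ.unop).hom (a.res φ.unop).w).op
                    (β.hom.app (op (Over.mk (a.res φ.unop).hom)) (F.obj.map
                      (Over.homMk φ.unop.left rfl : Over.mk (φ.unop.left ≫ a.hom) ⟶ Over.mk a.hom).op a.val)) =
                  G.obj.map φ (G.obj.map (backHom g a.hom a.w).op (β.hom.app (op (Over.mk a.hom)) a.val))
                refine (congrArg (G.obj.map _) (NatTrans.naturality_apply β.hom _ _)).trans ?_
                show G.obj.map _ (G.obj.map ((Over.map g).map _).op _) = _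
                rw [← Functor.map_comp_apply, ← Functor.map_comp_apply]
                congr 2



                }
          left_inv := fun α => by
            apply ObjectProperty.hom_ext
            ext T a
            change JSec g F T.unop at a
            show G.obj.map (backHom g a.hom a.w).op (α.hom.app (op ((Over.map g).obj (Over.mk a.hom))) (tautSec g a.val)) = _
            exact (NatTrans.naturality_apply α.hom _ _).symm.trans (congrArg (α.hom.app T) (res_tautSec g a))
          right_inv := fun β => by
            apply ObjectProperty.hom_ext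
            ext T x
            show G.obj.map (backHom g (tautSec g x).hom (tautSec g x).w).op
              (β.hom.app (op (Over.mk T.unop.hom)) (F.obj.map
                (Over.homMk (𝟙 T.unop.left) (Category.id_comp _) : Over.mk T.unop.hom ⟶ T.unop).op x)) = _
            refine (congrArg (G.obj.map _) (NatTrans.naturality_apply β.hom _ _)).trans ?_
            show G.obj.map _ (G.obj.map ((Over.map g).map _).op _) = _
            rw [← Functor.map_comp_apply, ← op_comp]
            refine (ConcreteCategory.congr_hom ((congrArg G.obj.map (congrArg Quiver.Hom.op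
              (Over.OverMorphism.ext (Category.id_comp _) : _ = 𝟙 ((Over.map g).obj T.unop)))).trans (G.obj.map_id _)) _).trans rfl }
      homEquiv_naturality_left_symm := fun f β => by
        apply ObjectProperty.hom_ext
        ext T a
        rfl
      homEquiv_naturality_right := fun α f => by
        apply ObjectProperty.hom_ext
        ext T x
        rfl }

/-- The extension is the left adjoint of restriction. -/
noncomputable def jshIso : jsh g ≅ (Over.map g).sheafPullback (Type (u + 1)) (J S) (J S') :=
  (jadj g).leftAdjointUniq ((Over.map g).sheafAdjunctionContinuous (Type (u + 1)) (J S) (J S'))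

/-- The extension of a representable sheaf. -/
def jshRepBy (X : Over S) : ((jsh g).obj ((yon S).obj X)).obj.RepresentableBy ((Over.map g).obj X) where
  homEquiv {T} :=
    { toFun := fun k => ⟨k.left ≫ X.hom, (Category.assoc _ _ _).trans (Over.w k), ⟨Over.homMk k.left rfl⟩⟩
      invFun := fun a => Over.homMk a.val.down.left (by
        show a.val.down.left ≫ X.hom ≫ g = T.hom
        rw [← Category.assoc, Over.w a.val.down]
        exact a.w)
      left_inv := fun k => Over.OverMorphism.ext rfl
      right_inv := fun a => by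
        refine JSec.ext' _ a (Over.w a.val.down) ?_
        apply ULift.ext
        apply Over.OverMorphism.ext
        exact Category.id_comp _ }
  homEquiv_comp {T T'} f k := by
    refine JSec.ext' _ _ (Category.assoc _ _ _) ?_
    apply ULift.ext
    apply Over.OverMorphism.ext
    exact Category.id_comp _

/-- The extension of a representable sheaf is representable. -/
noncomputable def jshYonIso (X : Over S) :
    (yon S').obj ((Over.map g).obj X) ≅ (jsh g).obj ((yon S).obj X) :=
  isoOfRepresentableBy (jshRepBy g X)

theorem jshYonIso_natural {X Y : Over S} (f : X ⟶ Y) :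
    (yon S').map ((Over.map g).map f) ≫ (jshYonIso g Y).hom = (jshYonIso g X).hom ≫ (jsh g).map ((yon S).map f) := by
  apply ObjectProperty.hom_ext
  ext T ⟨k⟩
  refine JSec.ext' (T := T.unop) _ _ (by
    show (k.left ≫ f.left) ≫ Y.hom = k.left ≫ X.hom
    rw [Category.assoc, Over.w f]) ?_
  apply ULift.ext
  apply Over.OverMorphism.ext
  exact Category.id_comp _

theorem exists_isPullback_jsh {F G : Sp S} {f : F ⟶ G} (hf : Representable f) {T' : Over S'}
    (ξ : (yon S').obj T' ⟶ (jsh g).obj G) :
    ∃ (T₀ W : Over S) (snd : W ⟶ T₀) (fst : (yon S).obj W ⟶ F) (η : (yon S).obj T₀ ⟶ G) (W' : Over S')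
      (snd' : W' ⟶ T') (fst' : (yon S').obj W' ⟶ (jsh g).obj F),
      (∀ P : MorphismProperty Scheme.{u}, P.RespectsIso → P snd.left → P snd'.left) ∧
        IsPullback fst ((yon S).map snd) f η ∧ IsPullback fst' ((yon S').map snd') ((jsh g).map f) ξ := by
  let a : JSec g G T' := (J S').uliftYonedaEquiv ξ
  let T₀ : Over S := Over.mk a.hom
  let η : (yon S).obj T₀ ⟶ G := (J S).uliftYonedaEquiv.symm a.val
  obtain ⟨W, snd, fst, sq⟩ := hf η
  let ε : T' ≅ (Over.map g).obj T₀ := Over.isoMk (Iso.refl _) (by
    show 𝟙 _ ≫ a.hom ≫ g = T'.hom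
    rw [Category.id_comp, a.w])
  have hξ : ξ = (yon S').map ε.hom ≫ (jshYonIso g T₀).hom ≫ (jsh g).map η := by
    apply (J S').uliftYonedaEquiv.injective
    rw [← Category.assoc, GrothendieckTopology.uliftYonedaEquiv_comp, GrothendieckTopology.uliftYonedaEquiv_comp,
      GrothendieckTopology.uliftYonedaEquiv_uliftYoneda_map]
    show a = (⟨ε.hom.left ≫ T₀.hom, _, η.hom.app (op (Over.mk (ε.hom.left ≫ T₀.hom))) ⟨Over.homMk ε.hom.left rfl⟩⟩ : JSec g G T')
    refine (JSec.ext' _ a (Category.id_comp _) ?_).symm
    rw [← NatTrans.naturality_apply]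
    show η.hom.app (op (Over.mk a.hom)) ⟨_⟩ = a.val
    simp only [η]
    rw [GrothendieckTopology.uliftYonedaEquiv_symm_app_apply]
    refine (ConcreteCategory.congr_hom ((congrArg G.obj.map (congrArg Quiver.Hom.op
      (Over.OverMorphism.ext (Category.id_comp _) : _ = 𝟙 (Over.mk a.hom)))).trans (G.obj.map_id _)) _).trans rfl
  refine ⟨T₀, W, snd, fst, η, (Over.map g).obj W, (Over.map g).map snd ≫ ε.inv,
    (jshYonIso g W).hom ≫ (jsh g).map fst, fun P hP h => ?_, sq, ?_⟩
  · show P (snd.left ≫ ε.inv.left)
    haveI := hP
    haveI : IsIso ε.inv.left := inferInstanceAs (IsIso ((Over.forget S').map ε.inv))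
    exact (P.cancel_right_of_respectsIso _ _).2 h
  · refine (jsh_map_isPullback g sq).of_iso (jshYonIso g W).symm (Iso.refl _)
      ((jshYonIso g T₀).symm ≪≫ ((yon S').mapIso ε).symm) (Iso.refl _) ?_ ?_ ?_ ?_
    · simp
    · simp only [Iso.trans_hom, Iso.symm_hom, Functor.mapIso_inv, Functor.map_comp]
      rw [← Category.assoc, ← Category.assoc ((jshYonIso g W).inv)]
      congr 1


    · simp
    · rw [hξ]
      simp [← Functor.map_comp_assoc]

theorem junit_isPullback {F G : Sp S} (f : F ⟶ G) :
    IsPullback (junit g F) f ((jinv g).map ((jsh g).map f)) (junit g G) := by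
  refine isPullback_of_sections ?_ ?_ ?_
  · apply ObjectProperty.hom_ext
    ext T x
    refine JSec.ext' (T := (Over.map g).obj T.unop) _ _ rfl ?_
    erw [Functor.map_id_apply]
    exact NatTrans.naturality_apply f.hom _ x
  · intro T x y hx _
    have := JSec.val_congr hx (Over.homMk (𝟙 T.left) (Category.id_comp _) : T ⟶ Over.mk T.hom)
      (Over.homMk (𝟙 T.left) (Category.id_comp _) : T ⟶ Over.mk T.hom) rfl
    simp only [junit_app, tautSec, ← Functor.map_comp_apply, ← op_comp] at this
    rw [show (Over.homMk (𝟙 T.left) (Category.id_comp _) : T ⟶ Over.mk T.hom) ≫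
      (Over.homMk (𝟙 T.left) (Category.id_comp _) : Over.mk T.hom ⟶ T) = 𝟙 T from Over.OverMorphism.ext (Category.id_comp _),
      op_id, Functor.map_id_apply, Functor.map_id_apply] at this
    exact this
  · intro T a y h
    change JSec g F ((Over.map g).obj T) at a
    have hh : a.hom = T.hom := (congrArg JSec.hom h :)
    let ν : T ⟶ Over.mk a.hom := Over.homMk (𝟙 T.left) ((Category.id_comp _).trans hh)
    refine ⟨F.obj.map ν.op a.val, ?_, ?_⟩
    · refine (JSec.ext' a _ hh ?_).symm
      simp only [junit_app, tautSec, ← Functor.map_comp_apply, ← op_comp]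
      congr 2


    · rw [NatTrans.naturality_apply]
      have := JSec.val_congr h ν (Over.homMk (𝟙 T.left) (Category.id_comp _) : T ⟶ Over.mk T.hom) rfl
      simp only [junit_app, tautSec, ← Functor.map_comp_apply, ← op_comp] at this
      rw [show (Over.homMk (𝟙 T.left) (Category.id_comp _) : T ⟶ Over.mk T.hom) ≫
        (Over.homMk (𝟙 T.left) (Category.id_comp _) : Over.mk T.hom ⟶ T) = 𝟙 T from Over.OverMorphism.ext (Category.id_comp _),
        op_id, Functor.map_id_apply] at this
      exact this

theorem representable_jsh {F G : Sp S} {f : F ⟶ G} (hf : Representable f) : Representable ((jsh g).map f) := by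
  intro T' ξ
  obtain ⟨-, -, -, -, -, W', snd', fst', -, -, sq⟩ := exists_isPullback_jsh g hf ξ
  exact ⟨W', snd', fst', sq⟩

theorem repWith_jsh_iff {P : MorphismProperty Scheme.{u}} [P.IsStableUnderBaseChange] {F G : Sp S} (f : F ⟶ G) :
    RepWith P ((jsh g).map f) ↔ RepWith P f := by
  refine ⟨fun h => repWith_of_isPullback (junit_isPullback g f) (repWith_jinv g h), fun hf => ?_⟩
  refine ⟨representable_jsh g hf.rep, fun T' V ξ fst₁ snd₁ sq₁ => ?_⟩
  obtain ⟨T₀, W, snd, fst, η, W', snd', fst', hP, sq, sq'⟩ := exists_isPullback_jsh g hf.rep ξ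
  have h' : P snd'.left := hP P (MorphismProperty.IsStableUnderBaseChange.respectsIso) (hf.property η fst snd sq)
  obtain ⟨e, he⟩ := (yon S').map_surjective (sq₁.isoIsPullback _ _ sq').hom
  haveI : IsIso ((yon S').map e) := by rw [he]; infer_instance
  haveI : IsIso e := isIso_of_reflects_iso e (yon S')
  have hse : e ≫ snd' = snd₁ := (yon S').map_injective (by
    rw [Functor.map_comp, he, IsPullback.isoIsPullback_hom_snd])
  haveI : P.RespectsIso := MorphismProperty.IsStableUnderBaseChange.respectsIso
  change P snd₁.left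
  rw [← hse, Over.comp_left]
  haveI : IsIso e.left := inferInstanceAs (IsIso ((Over.forget S').map e))
  exact (P.cancel_left_of_respectsIso e.left snd'.left).2 h'

theorem isAlgSpace_jsh {F : Sp S} (hF : IsAlgSpace F) : IsAlgSpace ((jsh g).obj F) := by
  obtain ⟨U, a, ha, has⟩ := hF.atlas
  exact AlgSpDec.isAlgSpace_of_etale_surjective (IsAlgSpace.yon_obj _)
    (f := (jshYonIso g U).hom ≫ (jsh g).map a)
    (repWith_comp (repWith_of_isIso _ _) ((repWith_jsh_iff g a).2 ha))
    (repWith_comp (repWith_of_isIso _ _) ((repWith_jsh_iff g a).2 has))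

theorem isAlgSpace_of_jsh {F : Sp S} (hF : IsAlgSpace ((jsh g).obj F)) : IsAlgSpace F := by
  let e : F ⟶ (yon S).obj (Over.mk (𝟙 S)) := (AlgSpPts.isTerminalYon S).from F
  exact isAlgSpace_of_isPullback (junit_isPullback g e) (isAlgSpace_jinv g hF) (IsAlgSpace.yon_obj _)
    (isAlgSpace_jinv g (isAlgSpace_jsh g (IsAlgSpace.yon_obj _)))

/-- The comparison of the extension of a restriction with the product. -/
noncomputable def jshJinvIso (F' : Sp S') :
    (jsh g).obj ((jinv g).obj F') ≅ (yon S').obj (Over.mk g) ⨯ F' :=
  let p₁ : (jsh g).obj ((jinv g).obj F') ⟶ (yon S').obj (Over.mk g) := ObjectProperty.homMk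
    { app := fun T => ↾ fun a => ⟨Over.homMk a.hom a.w⟩
      naturality := fun T T' φ => by
        apply ConcreteCategory.hom_ext
        intro a
        rfl }
  let p₂ : (jsh g).obj ((jinv g).obj F') ⟶ F' := ((jadj g).counit).app F'
  let B : BinaryFan ((yon S').obj (Over.mk g)) F' := BinaryFan.mk p₁ p₂
  let ν : ∀ {s : Sp S'} (f : s ⟶ (yon S').obj (Over.mk g)) (h : s ⟶ F'), s ⟶ (jsh g).obj ((jinv g).obj F') :=
    fun {s} f h => ObjectProperty.homMk
      { app := fun T => ↾ fun x => ⟨(f.hom.app T x).down.left, Over.w (f.hom.app T x).down,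
          F'.obj.map (Over.homMk (𝟙 _) (by
            show 𝟙 _ ≫ T.unop.hom = (f.hom.app T x).down.left ≫ g
            rw [Category.id_comp]
            exact (Over.w (f.hom.app T x).down).symm) :
              (Over.map g).obj (Over.mk (f.hom.app T x).down.left) ⟶ T.unop).op (h.hom.app T x)⟩
        naturality := fun T T' φ => by
          apply ConcreteCategory.hom_ext
          intro x
          have h1 := NatTrans.naturality_apply f.hom φ x
          refine JSec.ext' (T := T'.unop) _ _ (congrArg (fun q => q.down.left) h1) ?_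
          have h2 := NatTrans.naturality_apply h.hom φ x
          change F'.obj.map _ (F'.obj.map _ (h.hom.app T' (s.obj.map φ x))) = F'.obj.map _ (F'.obj.map _ (h.hom.app T x))
          rw [h2, ← Functor.map_comp_apply, ← Functor.map_comp_apply, ← Functor.map_comp_apply]
          congr 2


          }
  (IsLimit.conePointUniqueUpToIso (BinaryFan.IsLimit.mk B (fun f h => ν f h)
    (fun f h => by apply ObjectProperty.hom_ext; ext T x; rfl)
    (fun f h => by
      apply ObjectProperty.hom_ext
      ext T x
      show F'.obj.map _ (F'.obj.map _ (h.hom.app T x)) = _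
      rw [← Functor.map_comp_apply]
      refine (ConcreteCategory.congr_hom ((congrArg F'.obj.map (Quiver.Hom.unop_inj
        (Over.OverMorphism.ext (Category.id_comp _)) : _ = 𝟙 T)).trans (F'.obj.map_id _)) _).trans rfl)
    (fun f h m h₁ h₂ => by
      apply ObjectProperty.hom_ext
      ext T x
      subst h₁ h₂
      refine JSec.ext' (T := T.unop) _ _ rfl ?_
      change F'.obj.map _ _ = F'.obj.map _ (F'.obj.map _ _)
      rw [← Functor.map_comp_apply]
      congr 2


      )) (limit.isLimit _) : _)

theorem isAlgSpace_jinv_iff (F' : Sp S') :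
    IsAlgSpace ((jinv g).obj F') ↔ IsAlgSpace ((yon S').obj (Over.mk g) ⨯ F') :=
  ⟨fun h => (isAlgSpace_jsh g h).of_iso (jshJinvIso g F'),
    fun h => isAlgSpace_of_jsh g (h.of_iso (jshJinvIso g F').symm)⟩

end Groth.Agent.AlgSpBase
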