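import Groth.Agent.AlgSpBase.JShriekProps

/-!
# Spaces over a smaller base as spaces over the larger base with a map to it
-/

set_option backward.isDefEq.respectTransparency false
set_option backward.isDefEq.respectTransparency.types false

universe u

open CategoryTheory CategoryTheory.Limits AlgebraicGeometry Opposite AlgSp Groth.Agent.AlgSpLib

namespace Groth.Agent.AlgSpBase

variable {S S' : Scheme.{u}} (g : S ⟶ S')

/-- The extension of the final sheaf. -/
noncomputable def baseIso : (jsh g).obj ((yon S).obj (Over.mk (𝟙 S))) ≅ (yon S').obj (Over.mk g) :=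
  (jshYonIso g (Over.mk (𝟙 S))).symm ≪≫ (yon S').mapIso (Over.isoMk (Iso.refl _) (by simp))

/-- The structure map of an extension. -/
noncomputable def jproj (F : Sp S) : (jsh g).obj F ⟶ (yon S').obj (Over.mk g) :=
  (jsh g).map ((AlgSpPts.isTerminalYon S).from F) ≫ (baseIso g).hom

theorem jproj_natural {F G : Sp S} (f : F ⟶ G) : (jsh g).map f ≫ jproj g G = jproj g F := by
  rw [jproj, jproj, ← Category.assoc, ← Functor.map_comp, (AlgSpPts.isTerminalYon S).hom_ext (f ≫ _) ((AlgSpPts.isTerminalYon S).from F)]

instance mono_junit (F : Sp S) : Mono (junit g F) := by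
  constructor
  intro Z a b h
  refine (junit_isPullback g ((AlgSpPts.isTerminalYon S).from F)).hom_ext h ((AlgSpPts.isTerminalYon S).hom_ext _ _)

theorem junit_natural {F G : Sp S} (f : F ⟶ G) :
    junit g F ≫ (jinv g).map ((jsh g).map f) = f ≫ junit g G := (junit_isPullback g f).w

theorem hom_ext_junit {F : Sp S} {G : Sp S'} (α β : (jsh g).obj F ⟶ G)
    (h : junit g F ≫ (jinv g).map α = junit g F ≫ (jinv g).map β) : α = β :=
  ((jadj g).homEquiv F G).injective (by
    rw [Adjunction.homEquiv_unit, Adjunction.homEquiv_unit]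
    have e : (jadj g).unit.app F = junit g F := by
      simp [jadj, Adjunction.mkOfHomEquiv]
    rw [e]
    exact h)

/-- The comparison functor. -/
noncomputable def spaceFunctor : Space S ⥤ Over ((ofScheme S').obj (Over.mk g)) where
  obj F := Over.mk (Y := (⟨(jsh g).obj F.obj, isAlgSpace_jsh g F.property⟩ : Space S'))
    (ObjectProperty.homMk (jproj g F.obj))
  map {F G} f := Over.homMk (ObjectProperty.homMk ((jsh g).map f.hom)) (by
    apply ObjectProperty.hom_ext
    exact jproj_natural g f.hom)
  map_id F := Over.OverMorphism.ext (ObjectProperty.hom_ext _ ((jsh g).map_id F.obj))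
  map_comp f h := Over.OverMorphism.ext (ObjectProperty.hom_ext _ ((jsh g).map_comp f.hom h.hom))

instance : (spaceFunctor g).Faithful where
  map_injective {F G f₁ f₂} h := by
    apply ObjectProperty.hom_ext
    have h' : (jsh g).map f₁.hom = (jsh g).map f₂.hom := congrArg (fun q => q.left.hom) h
    rw [← cancel_mono (junit g G.obj), ← junit_natural, ← junit_natural, h']

instance : (spaceFunctor g).Full where
  map_surjective {F G} β := by
    let β' : (jsh g).obj F.obj ⟶ (jsh g).obj G.obj := β.left.hom
    have hβ : β' ≫ jproj g G.obj = jproj g F.obj := congrArg (fun q => q.hom) (Over.w β)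
    simp only [jproj, ← Category.assoc, cancel_mono] at hβ
    obtain ⟨f, hf, -⟩ := (junit_isPullback g ((AlgSpPts.isTerminalYon S).from G.obj)).exists_lift
      (junit g F.obj ≫ (jinv g).map β') ((AlgSpPts.isTerminalYon S).from F.obj) (by
        rw [Category.assoc, ← Functor.map_comp, hβ, junit_natural])
    refine ⟨ObjectProperty.homMk f, Over.OverMorphism.ext (ObjectProperty.hom_ext _ ?_)⟩
    refine hom_ext_junit g _ _ ?_
    show junit g F.obj ≫ (jinv g).map ((jsh g).map f) = junit g F.obj ≫ (jinv g).map β'
    rw [junit_natural, hf]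

theorem isIso_of_fibre {X : Sp S'} {K : Sp S} (q : X ⟶ (jsh g).obj ((yon S).obj (Over.mk (𝟙 S))))
    (fst : K ⟶ (jinv g).obj X) (snd : K ⟶ (yon S).obj (Over.mk (𝟙 S)))
    (sq : IsPullback fst snd ((jinv g).map q) (junit g _))
    (c : (jsh g).obj K ⟶ X) (hc : junit g K ≫ (jinv g).map c = fst) : IsIso c := by
  have hcw : c ≫ q = (jsh g).map snd := by
    refine hom_ext_junit g _ _ ?_
    rw [Functor.map_comp, ← Category.assoc, hc, sq.w, junit_natural]
  have happ : ∀ (T : Over S') (a : JSec g K T), c.hom.app (op T) a =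
      X.obj.map (backHom g a.hom a.w).op (fst.hom.app (op (Over.mk a.hom)) a.val) := fun T a => by
    rw [← hc]
    refine ((congrArg (c.hom.app (op T)) (res_tautSec g a)).symm.trans ?_)
    exact NatTrans.naturality_apply c.hom _ _
  have hq : ∀ (T : Over S') (a : JSec g K T),
      JSec.hom (q.hom.app (op T) (c.hom.app (op T) a) : JSec g _ T) = a.hom := fun T a => by
    have := congrArg (fun φ => φ.hom.app (op T) a) hcw
    exact congrArg JSec.hom this
  suffices h : ∀ T : (Over S')ᵒᵖ, IsIso (c.hom.app T) by
    haveI : IsIso c.hom := NatIso.isIso_of_isIso_app c.hom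
    haveI : IsIso ((sheafToPresheaf (J S') (Type (u + 1))).map c) := ‹IsIso c.hom›
    exact isIso_of_reflects_iso c (sheafToPresheaf (J S') (Type (u + 1)))
  rintro ⟨T⟩
  rw [isIso_iff_bijective]
  constructor
  · intro a b h
    change JSec g K T at a b
    have hh : a.hom = b.hom := by rw [← hq T a, ← hq T b, h]
    obtain ⟨ah, aw, av⟩ := a
    obtain ⟨bh, bw, bv⟩ := b
    change ah = bh at hh
    subst hh
    rw [happ, happ] at h
    have hf : fst.hom.app (op (Over.mk ah)) av = fst.hom.app (op (Over.mk ah)) bv := by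
      let inv : (Over.map g).obj (Over.mk ah) ⟶ T := Over.homMk (𝟙 _) ((Category.id_comp _).trans aw.symm)
      have e : inv ≫ backHom g ah aw = 𝟙 _ := Over.OverMorphism.ext (Category.id_comp _)
      have := congrArg (X.obj.map inv.op) h
      rw [← Functor.map_comp_apply, ← Functor.map_comp_apply, ← op_comp, e, op_id] at this
      exact ((Functor.map_id_apply _ _ _).symm.trans this).trans (Functor.map_id_apply _ _ _)
    have := (sections_of_isPullback sq (Over.mk ah)).1 av bv hf
      (ULift.ext _ _ (Over.OverMorphism.ext (((Category.comp_id _).symm.trans (Over.w _)).trans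
        ((Category.comp_id _).symm.trans (Over.w _)).symm)))
    rw [this]
  · intro x
    change X.obj.obj (op T) at x
    let b : JSec g ((yon S).obj (Over.mk (𝟙 S))) T := q.hom.app (op T) x
    let inv : (Over.map g).obj (Over.mk b.hom) ⟶ T := Over.homMk (𝟙 _) ((Category.id_comp _).trans b.w.symm)
    obtain ⟨z, hz, -⟩ := (sections_of_isPullback sq (Over.mk b.hom)).2 (X.obj.map inv.op x)
      (⟨Over.homMk b.hom (Category.comp_id _)⟩ : ULift (Over.mk b.hom ⟶ Over.mk (𝟙 S))) (by
        refine (NatTrans.naturality_apply q.hom inv.op x).trans ?_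
        refine JSec.ext' (T := (Over.map g).obj (Over.mk b.hom)) _ _ (Category.id_comp _) ?_
        apply ULift.ext
        apply Over.OverMorphism.ext
        exact ((Category.comp_id _).symm.trans (Over.w _)).trans ((Category.comp_id _).symm.trans (Over.w _)).symm)
    refine ⟨(⟨b.hom, b.w, z⟩ : JSec g K T), ?_⟩
    rw [happ, hz, ← Functor.map_comp_apply, ← op_comp,
      show backHom g b.hom b.w ≫ inv = 𝟙 T from Over.OverMorphism.ext (Category.id_comp _), op_id]
    exact Functor.map_id_apply _ _ _

instance : (spaceFunctor g).EssSurj where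
  mem_essImage Y := by
    let X : Sp S' := Y.left.obj
    let q : X ⟶ (jsh g).obj ((yon S).obj (Over.mk (𝟙 S))) := Y.hom.hom ≫ (baseIso g).inv
    let K := pullback ((jinv g).map q) (junit g ((yon S).obj (Over.mk (𝟙 S))))
    have sq : IsPullback (pullback.fst ((jinv g).map q) (junit g ((yon S).obj (Over.mk (𝟙 S)))))
      (pullback.snd _ _) ((jinv g).map q) (junit g ((yon S).obj (Over.mk (𝟙 S)))) := IsPullback.of_hasPullback _ _
    have hK : IsAlgSpace K := isAlgSpace_of_isPullback sq (isAlgSpace_jinv g Y.left.property) (IsAlgSpace.yon_obj _)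
      (isAlgSpace_jinv g (isAlgSpace_jsh g (IsAlgSpace.yon_obj _)))
    let c : (jsh g).obj K ⟶ X := ((jadj g).homEquiv K X).symm (pullback.fst _ _)
    have hc : junit g K ≫ (jinv g).map c = pullback.fst ((jinv g).map q) (junit g _) :=
      ((jadj g).homEquiv K X).apply_symm_apply _
    haveI := isIso_of_fibre g q _ _ sq c hc
    refine ⟨⟨K, hK⟩, ⟨Over.isoMk (ObjectProperty.isoMk _ (asIso c)) ?_⟩⟩
    apply ObjectProperty.hom_ext
    show c ≫ Y.hom.hom = jproj g K
    have : c ≫ q = (jsh g).map ((AlgSpPts.isTerminalYon S).from K) := by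
      refine hom_ext_junit g _ _ ?_
      rw [Functor.map_comp, ← Category.assoc, hc, sq.w, junit_natural]
      congr 1
      exact (AlgSpPts.isTerminalYon S).hom_ext _ _
    rw [jproj, ← this]
    simp [q]

theorem exists_equivalence :
    ∃ E : Space S ≌ Over ((ofScheme S').obj (Over.mk g)),
      Nonempty (E.functor ⋙ Over.forget _ ⋙ ObjectProperty.ι (IsAlgSpace (S := S')) ≅
        ObjectProperty.ι (IsAlgSpace (S := S)) ⋙ ((Over.map g).sheafPullback (Type (u + 1)) (J S) (J S'))) := by
  haveI : (spaceFunctor g).IsEquivalence := { }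
  exact ⟨(spaceFunctor g).asEquivalence,
    ⟨NatIso.ofComponents (fun F => (jshIso g).app F.obj) (fun f => (jshIso g).hom.naturality f.hom)⟩⟩

end Groth.Agent.AlgSpBase
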